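import Groth.Agent.AlgSpLib.CoverDesc
import Groth.Agent.AlgSpLib.Subspace
import Groth.Agent.AlgSpLib.PointMisc
import Groth.Agent.Bootstrap.CoprodAlg
import Groth.Agent.AlgSpLib.LocPMore
import Mathlib.CategoryTheory.Adhesive.Basic
import Mathlib.CategoryTheory.Sites.LeftExact

/-!
# Glueing along a separated etale morphism: the relation
-/

set_option autoImplicit false
set_option linter.style.haveILetI false
universe u

open CategoryTheory CategoryTheory.Limits AlgebraicGeometry

set_option backward.isDefEq.respectTransparency false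

namespace Groth.Agent.EtGlue

open _root_.AlgSp Groth.Agent.AlgSpLib

variable {S : Scheme.{u}}

/-- the two summands -/
noncomputable abbrev two (A B : Sp S) : ULift.{u} Bool → Sp S := fun b => bif b.down then A else B

/-- the two maps -/
noncomputable def twoHom {A B Z : Sp S} (a : A ⟶ Z) (b : B ⟶ Z) : ∀ k, two A B k ⟶ Z := fun k => match k with
  | ⟨true⟩ => a
  | ⟨false⟩ => b

theorem two_isAlgSpace {A B : Sp S} (hA : IsAlgSpace A) (hB : IsAlgSpace B) : ∀ k, IsAlgSpace (two A B k) :=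
  fun k => match k with
    | ⟨true⟩ => hA
    | ⟨false⟩ => hB

theorem subsingleton_hom_of_isEmpty_points {F Z : Sp S} (hF : IsAlgSpace F) [IsEmpty (Points F)] :
    Subsingleton (F ⟶ Z) := by
  obtain ⟨U, p, hpe, hps⟩ := hF.atlas
  have : Sheaf.IsLocallySurjective p := isLocallySurjective_of_atlas hpe hps
  have : Epi p := (Sheaf.isLocallySurjective_iff_epi p).1 inferInstance
  have : IsEmpty U.left := ⟨fun u => IsEmpty.false (Points.ofPt p u)⟩
  exact ⟨fun a b => (cancel_epi p).1 ((subsingleton_hom_of_isEmpty (F := Z)).elim _ _)⟩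

theorem etaleMor_of_open {X Y : Sp S} {j : X ⟶ Y} (hj : RepWith @IsOpenImmersion j) : IsEtaleMor j :=
  isEtaleMor_of_repWith' (repWith_mono (fun _ _ r hr => by
    have : IsOpenImmersion r := hr
    exact (inferInstance : Etale r)) hj)

theorem fppf_of_etale {X Y : Sp S} (hY : IsAlgSpace Y) {f : X ⟶ Y} (hf : IsEtaleMor f) :
    LocP @Flat f ∧ LocP @LocallyOfFinitePresentation f :=
  ⟨fun A B a b c ha hb e => etST_flat.of_etale _ ((isEtaleMor_iff_locP hY).1 hf a b c ha hb e),
    fun A B a b c ha hb e => etST_lfp.of_etale _ ((isEtaleMor_iff_locP hY).1 hf a b c ha hb e)⟩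

theorem mono_of_open {X Y : Sp S} {j : X ⟶ Y} (hj : RepWith @IsOpenImmersion j) : Mono j :=
  mono_of_repWith_immersion (repWith_mono (P := @IsOpenImmersion) (Q := @IsImmersion)
    (fun _ _ g hg => have : IsOpenImmersion g := hg; inferInstance) hj)

/-- an open and closed subspace has a complementary summand -/
theorem exists_compl {A B : Sp S} (hA : IsAlgSpace A) (hB : IsAlgSpace B) (d : B ⟶ A)
    (hdo : RepWith @IsOpenImmersion d) (hdc : RepWith @IsClosedImmersion d) :
    ∃ (C : Sp S) (e : C ⟶ A), IsAlgSpace C ∧ RepWith @IsOpenImmersion e ∧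
      Disjoint (Set.range (Points.map d)) (Set.range (Points.map e)) ∧
      Nonempty (IsColimit (Cofan.mk A (twoHom d e))) := by
  have hcl : IsClosed (Set.range (Points.map d)) := by
    obtain ⟨U, a, hae, has⟩ := hA.atlas
    obtain ⟨V, c, j, sq, hj⟩ := exists_repWith hdc a
    have : IsClosedImmersion j.left := hj
    rw [← ((isOpenMap_ofPt (repWith_universallyOpen_of_etale hae)).isQuotientMap (Points.continuous_ofPt a)
      (ofPt_surjective has)).isClosed_preimage]
    have e : Points.ofPt a ⁻¹' Set.range (Points.map d) = Set.range j.left := by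
      ext u
      constructor
      · rintro ⟨z, hz⟩
        obtain ⟨w, -, hw⟩ := exists_point_of_isPullback sq z (Points.ofScheme U u)
          (hz.trans (Points.ofPt_eq_map_ofScheme a u))
        obtain ⟨w', rfl⟩ := (Points.schemeEquiv V).surjective w
        exact ⟨w', (Points.schemeEquiv U).injective ((ofScheme_map j w').symm.trans hw)⟩
      · rintro ⟨w, rfl⟩
        exact ⟨Points.ofPt c w, by rw [Points.map_ofPt, sq.w, ofPt_comp]⟩
    rw [e]
    exact j.left.isClosedEmbedding.isClosed_range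
  let W : Set (Points A) := (Set.range (Points.map d))ᶜ
  have hW : IsOpen W := hcl.isOpen_compl
  have hC := isAlgSpace_subSheaf hA hW
  have heo := repWith_subInc (F := A) hW
  have hdisj : Disjoint (Set.range (Points.map d)) (Set.range (Points.map (subInc W))) :=
    disjoint_compl_right.mono_right (range_subInc W).le
  let g := twoHom d (subInc W)
  have hcov : IsFppfCover (two B (subSheaf W)) g := by
    refine ⟨fun k => match k with
      | ⟨true⟩ => fppf_of_etale hA (etaleMor_of_open hdo)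
      | ⟨false⟩ => fppf_of_etale hA (etaleMor_of_open heo), fun x => ?_⟩
    by_cases hx : x ∈ Set.range (Points.map d)
    · exact ⟨⟨true⟩, hx⟩
    · exact ⟨⟨false⟩, (range_subInc W).symm ▸ hx⟩
  have hY := two_isAlgSpace hB hC
  have hd := mono_of_open hdo
  have he := mono_of_open heo
  have hempty : ∀ {X₁ X₂ Z : Sp S} (a : X₁ ⟶ A) (b : X₂ ⟶ A), IsAlgSpace X₁ → IsAlgSpace X₂ →
      Disjoint (Set.range (Points.map a)) (Set.range (Points.map b)) →
      Subsingleton (pullback a b ⟶ Z) := fun {X₁ X₂ Z} a b h₁ h₂ hdis => by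
    have : IsEmpty (Points (pullback a b)) := ⟨fun z => Set.disjoint_left.1 hdis
      ⟨Points.map (pullback.fst a b) z, rfl⟩
      ⟨Points.map (pullback.snd a b) z, by rw [← Points.map_comp, ← pullback.condition, Points.map_comp]⟩⟩
    exact subsingleton_hom_of_isEmpty_points
      (isAlgSpace_of_isPullback_space hA h₁ h₂ (IsPullback.of_hasPullback a b))
  have hdesc : ∀ t : Cofan (two B (subSheaf W)), ∃ ψ : A ⟶ t.pt, ∀ k, g k ≫ ψ = t.inj k := fun t =>
    exists_desc_of_fppfCover hA hY hcov (fun k => t.inj k) fun k l => by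
      rcases k with ⟨_ | _⟩ <;> rcases l with ⟨_ | _⟩
      · exact congrArg (· ≫ t.inj _) ((cancel_mono (subInc W)).1 pullback.condition)
      · exact (hempty (subInc W) d hC hB hdisj.symm).elim _ _
      · exact (hempty d (subInc W) hB hC hdisj).elim _ _
      · exact congrArg (· ≫ t.inj _) ((cancel_mono d).1 pullback.condition)
  exact ⟨subSheaf W, subInc W, hC, heo, hdisj, ⟨mkCofanColimit _ (fun t => (hdesc t).choose)
    (fun t k => (hdesc t).choose_spec k)
    fun t m hm => hom_ext_of_fppfCover hA hY hcov fun k => (hm k).trans ((hdesc t).choose_spec k).symm⟩⟩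

/-- the pushout of a mono along a coproduct inclusion -/
theorem isColimit_pushout_cofan {A B C V K : Sp S} {d : B ⟶ A} {e : C ⟶ A} {j : B ⟶ V} {l : V ⟶ K} {r : A ⟶ K}
    (hA : IsColimit (Cofan.mk A (twoHom d e))) (H : IsPushout j d l r) :
    Nonempty (IsColimit (Cofan.mk K (twoHom l (e ≫ r)))) := by
  have key : ∀ t : Cofan (two V C), ∃ ψ : K ⟶ t.pt, ∀ k, twoHom l (e ≫ r) k ≫ ψ = t.inj k := fun t => by
    let t' : Cofan (two B C) := Cofan.mk t.pt (twoHom (j ≫ t.inj ⟨true⟩) (t.inj ⟨false⟩))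
    have h1 : d ≫ hA.desc t' = j ≫ t.inj ⟨true⟩ := hA.fac t' ⟨⟨true⟩⟩
    have h2 : e ≫ hA.desc t' = t.inj ⟨false⟩ := hA.fac t' ⟨⟨false⟩⟩
    refine ⟨H.desc (t.inj ⟨true⟩) (hA.desc t') h1.symm, ?_⟩
    rintro ⟨_ | _⟩
    · show (e ≫ r) ≫ _ = _
      rw [Category.assoc, H.inr_desc, h2]
    · exact H.inl_desc _ _ _
  refine ⟨mkCofanColimit _ (fun t => (key t).choose) (fun t k => (key t).choose_spec k) fun t m hm => ?_⟩
  have hl := (hm ⟨true⟩).trans ((key t).choose_spec ⟨true⟩).symm
  have hr := (hm ⟨false⟩).trans ((key t).choose_spec ⟨false⟩).symm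
  refine H.hom_ext hl (Cofan.IsColimit.hom_ext hA _ _ fun k => ?_)
  rcases k with ⟨_ | _⟩
  · exact (Category.assoc _ _ _).symm.trans (hr.trans (Category.assoc _ _ _))
  · show d ≫ r ≫ m = d ≫ r ≫ _
    rw [← reassoc_of% H.w, ← reassoc_of% H.w]
    exact congrArg (j ≫ ·) hl

/-- in an adhesive category the kernel pair of the pushout of a mono is covered by the diagonal and
the kernel pair of the attaching map -/
theorem kernel_union {C : Type*} [Category C] [Adhesive C] [HasPullbacks C] {V' V U W A K : C}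
    {j : V' ⟶ V} {g : V' ⟶ U} {f : V ⟶ W} {i : U ⟶ W} [Mono j] (H : IsPushout j g f i)
    {a₁ a₂ : A ⟶ V'} (hA : IsPullback a₁ a₂ g g) {k₁ k₂ : K ⟶ V} (hK : IsPullback k₁ k₂ f f)
    {δ : V' ⟶ A} (hδ₁ : δ ≫ a₁ = 𝟙 V') (hδ₂ : δ ≫ a₂ = 𝟙 V') {Δ : V ⟶ K} (hΔ₁ : Δ ≫ k₁ = 𝟙 V)
    (hΔ₂ : Δ ≫ k₂ = 𝟙 V) {ι : A ⟶ K} (hι₁ : ι ≫ k₁ = a₁ ≫ j) (hι₂ : ι ≫ k₂ = a₂ ≫ j) :
    IsPushout j δ Δ ι := by
  have hi : Mono i := Adhesive.mono_of_isPushout_of_mono_left H
  have hwall := Adhesive.isPullback_of_isPushout_of_mono_left H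
  -- the base change of the pushout along `f`
  have bX : IsPullback ι a₁ k₁ j := by
    refine IsPullback.of_right ?_ hι₁ hK.flip
    rw [hι₂, H.w]
    exact hA.flip.paste_horiz hwall
  have top : IsPushout ι a₂ k₂ j :=
    ((Adhesive.van_kampen H) ι a₂ k₂ j a₁ k₁ g f bX hA.flip ⟨hK.w.symm⟩ ⟨H.w⟩ ⟨hι₂⟩).2 ⟨hK.flip, hwall⟩
  have hιm : Mono ι := bX.mono_fst_of_mono
  have hδm : Mono δ := mono_of_mono_fac hδ₁
  have hΔm : Mono Δ := mono_of_mono_fac hΔ₁
  have hint : IsPullback j δ Δ ι := by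
    refine (IsPullback.of_right ?_ ?_ bX.flip).flip
    · rw [hδ₁, hΔ₁]
      exact IsPullback.of_horiz_isIso ⟨by simp⟩
    · apply hK.hom_ext
      · simp [hΔ₁, hι₁, reassoc_of% hδ₁]
      · simp [hΔ₂, hι₂, reassoc_of% hδ₂]
  let K' := pushout j δ
  let φ : K' ⟶ K := pushout.desc Δ ι hint.w
  have hφ : Mono φ := by
    let e := hint.isoPullback
    have hd : Mono (pushout.desc Δ ι pullback.condition) := inferInstance
    let m : K' ⟶ pushout (pullback.fst Δ ι) (pullback.snd Δ ι) :=
      pushout.map j δ _ _ (𝟙 V) (𝟙 A) e.hom (by simp [e]) (by simp [e])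
    have : IsIso m := by infer_instance
    have : φ = m ≫ pushout.desc Δ ι pullback.condition := by
      apply pushout.hom_ext <;> simp [φ, m]
    rw [this]
    infer_instance
  have sq' := IsPushout.of_hasPushout j δ
  -- the pushout of `φ` along `a₂`
  have top' : IsPushout (pushout.inr j δ) a₂ (φ ≫ k₂) j := by
    refine (IsPushout.of_left ?_ ?_ sq'.flip).flip
    · rw [hδ₂, pushout.inl_desc_assoc, hΔ₂]
      exact IsPushout.of_horiz_isIso ⟨by simp⟩
    · rw [pushout.inr_desc_assoc, hι₂]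
  have hbX : IsPullback (pushout.inr j δ) (𝟙 A) φ ι := by
    refine ⟨⟨by simp [φ]⟩, ⟨PullbackCone.IsLimit.mk _ (fun s => s.snd) (fun s => ?_) (fun s => by simp)
      fun s m h₁ h₂ => by simpa using h₂⟩⟩
    rw [← cancel_mono φ, Category.assoc, pushout.inr_desc, s.condition]
  have := ((Adhesive.van_kampen top) (pushout.inr j δ) a₂ (φ ≫ k₂) j (𝟙 A) φ (𝟙 V') (𝟙 V) hbX
    (IsPullback.of_vert_isIso ⟨by simp⟩) ⟨by simp⟩ ⟨by simp⟩ ⟨top'.w⟩).1 top'
  have hiso : IsIso φ := by
    have h1 := this.1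
    exact IsPullback.isIso_snd_of_isIso h1
  exact sq'.of_iso (Iso.refl _) (Iso.refl _) (Iso.refl _) (asIso φ) (by simp) (by simp) (by simp [φ]) (by simp [φ])

end Groth.Agent.EtGlue
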