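import Groth.Agent.EtGlue.Kernel
import Groth.Agent.AlgSpLib.Criteria
import Groth.Agent.AlgSpLib.FpqcLocP
import Groth.Agent.S10102
import Groth.Agent.S10107
import Groth.Agent.SpQS.RedInduced
import Groth.Prelude.Def_AlgSpSub
import Mathlib.AlgebraicGeometry.Morphisms.LocalFlatDescent
import Mathlib.CategoryTheory.Sites.RegularEpi

/-!
# Glueing along a separated etale morphism from an open subspace
-/

set_option autoImplicit false
set_option linter.style.haveILetI false
universe u

open CategoryTheory CategoryTheory.Limits AlgebraicGeometry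

set_option backward.isDefEq.respectTransparency false

namespace Groth.Agent.EtGlue

open _root_.AlgSp Groth.Agent.AlgSpLib

variable {S : Scheme.{u}}

theorem isEtaleMor_comp' {F G H : Sp S} {f : F ⟶ G} {g : G ⟶ H} (hf : IsEtaleMor f) (hg : IsEtaleMor g) :
    IsEtaleMor (f ≫ g) := fun _ φ hφ => by
  have := hg (φ ≫ f) (hf φ hφ)
  rwa [Category.assoc] at this

theorem etale_iso {F G : Sp S} (f : F ⟶ G) [IsIso f] : IsEtaleMor f :=
  isEtaleMor_of_repWith' (repWith_of_isIso _)

theorem etale_cofan_desc {ι : Type u} {F : ι → Sp S} {c : Cofan F} (hc : IsColimit c) (hF : ∀ i, IsAlgSpace (F i))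
    {G : Sp S} (hG : IsAlgSpace G) (s : c.pt ⟶ G) (h : ∀ i, IsEtaleMor (c.inj i ≫ s)) : IsEtaleMor s := by
  have hpt := Bootstrap.isAlgSpace_cofan hc hF
  rw [isEtaleMor_iff_locP hG]
  intro U V a b g ha hb comm
  let O : ι → U.left.Opens := fun i =>
    ⟨Points.ofPt a ⁻¹' Set.range (Points.map (c.inj i)),
      (Bootstrap.isOpen_range_inj hc i).preimage (Points.continuous_ofPt a)⟩
  refine (IsZariskiLocalAtSource.iff_of_iSup_eq_top (P := @Etale) O
    (eq_top_iff.2 fun u _ => TopologicalSpace.Opens.mem_iSup.2 ?_)).2 fun i => ?_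
  · obtain ⟨i, hi⟩ := Bootstrap.exists_range_inj hc (Points.ofPt a u)
    exact ⟨i, hi⟩
  · let Ui : Over S := Over.mk ((O i).ι ≫ U.hom)
    let m : Ui ⟶ U := Over.homMk (O i).ι rfl
    obtain ⟨e, he⟩ := Bootstrap.exists_iso_summand hc i
    obtain ⟨l₀, hl₀⟩ := exists_subInc_lift (W := Set.range (Points.map (c.inj i))) ((yon S).map m ≫ a) (fun t => by
      rw [ofPt_comp]
      exact t.2)
    have hl : (l₀ ≫ e.inv) ≫ c.inj i = (yon S).map m ≫ a := by
      refine (congrArg ((l₀ ≫ e.inv) ≫ ·) he.symm).trans ?_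
      rw [Category.assoc, e.inv_hom_id_assoc, hl₀]
    have hle : RepWith @Etale (l₀ ≫ e.inv) := repWith_etale_of_comp (hF i) hpt
      (by rw [hl]; exact repWith_comp ((repWith_yon_iff m).2 (inferInstanceAs (Etale (O i).ι))) ha)
      (etaleMor_of_open (Bootstrap.repWith_inj hc i))
    have := (isEtaleMor_iff_locP hG).1 (h i) (l₀ ≫ e.inv) b (m ≫ g) hle hb (by
      rw [← Category.assoc, hl, Category.assoc, comm, Functor.map_comp, Category.assoc])
    exact this

/-- glueing an open subspace along a separated etale morphism -/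
theorem exists_glue {U V V' : Sp S} (hU : IsAlgSpace U) (hV : IsAlgSpace V) (hV' : IsAlgSpace V')
    (jV : V' ⟶ V) (hjV : RepWith @IsOpenImmersion jV) (g : V' ⟶ U) (hsep : IsSeparatedMor g)
    (het : IsEtaleMor g) :
    ∃ (W : Sp S) (j : U ⟶ W) (f : V ⟶ W), IsAlgSpace W ∧ IsPushout jV g f j ∧ IsPullback jV g f j ∧
      IsElemDistSq j f := by
  have := mono_of_open hjV
  have H := IsPushout.of_hasPushout jV g
  let W := pushout jV g
  let f : V ⟶ W := pushout.inl jV g
  let j : U ⟶ W := pushout.inr jV g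
  have hjm : Mono j := Adhesive.mono_of_isPushout_of_mono_left H
  have hwall := Adhesive.isPullback_of_isPushout_of_mono_left H
  -- the kernel pair of `g`
  let A := pullback g g
  have hA : IsAlgSpace A := isAlgSpace_of_isPullback_space hU hV' hV' (IsPullback.of_hasPullback g g)
  have ha₁ : IsEtaleMor (pullback.fst g g) := (isEtaleMor_iff_locP hV').2
    (locP_baseChange etST_etale hV' hU hA hV' (IsPullback.of_hasPullback g g).flip ((isEtaleMor_iff_locP hU).1 het))
  have ha₂ : IsEtaleMor (pullback.snd g g) := (isEtaleMor_iff_locP hV').2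
    (locP_baseChange etST_etale hV' hU hA hV' (IsPullback.of_hasPullback g g) ((isEtaleMor_iff_locP hU).1 het))
  let δ : V' ⟶ A := pullback.diagonal g
  have hδo : RepWith @IsOpenImmersion δ := by
    have : Mono δ := inferInstanceAs (Mono (pullback.diagonal g))
    refine repWith_isOpenImmersion_of_mono hV' hA δ (isEtaleMor_of_comp hA hV' ?_ ha₁)
    rw [pullback.diagonal_fst]
    exact etale_iso _
  obtain ⟨C, e, hC, heo, hdisj, ⟨colA⟩⟩ := exists_compl hA hV' δ hδo hsep
  -- the kernel pair of `f`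
  let K := pullback f f
  have hK := IsPullback.of_hasPullback f f
  let Δ : V ⟶ K := pullback.diagonal f
  let ι : A ⟶ K := pullback.lift (pullback.fst g g ≫ jV) (pullback.snd g g ≫ jV) (by
    rw [Category.assoc, Category.assoc, H.w, reassoc_of% (pullback.condition (f := g) (g := g))])
  have PK : IsPushout jV δ Δ ι := kernel_union H (IsPullback.of_hasPullback g g) hK
    (pullback.diagonal_fst g) (pullback.diagonal_snd g) (pullback.diagonal_fst f) (pullback.diagonal_snd f)
    (pullback.lift_fst _ _ _) (pullback.lift_snd _ _ _)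
  obtain ⟨colK⟩ := isColimit_pushout_cofan colA PK
  have hVC := two_isAlgSpace hV hC
  have hKs : IsAlgSpace K := Bootstrap.isAlgSpace_cofan colK hVC
  have hj' := etaleMor_of_open hjV
  have hk₁ : IsEtaleMor (pullback.fst f f) := by
    refine etale_cofan_desc colK hVC hV (pullback.fst f f) ?_
    rintro ⟨_ | _⟩
    · show IsEtaleMor ((e ≫ ι) ≫ pullback.fst f f)
      rw [Category.assoc, pullback.lift_fst]
      exact isEtaleMor_comp' (etaleMor_of_open heo) (isEtaleMor_comp' ha₁ hj')
    · show IsEtaleMor (Δ ≫ pullback.fst f f)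
      rw [pullback.diagonal_fst]
      exact etale_iso _
  have hk₂ : IsEtaleMor (pullback.snd f f) := by
    refine etale_cofan_desc colK hVC hV (pullback.snd f f) ?_
    rintro ⟨_ | _⟩
    · show IsEtaleMor ((e ≫ ι) ≫ pullback.snd f f)
      rw [Category.assoc, pullback.lift_snd]
      exact isEtaleMor_comp' (etaleMor_of_open heo) (isEtaleMor_comp' ha₂ hj')
    · show IsEtaleMor (Δ ≫ pullback.snd f f)
      rw [pullback.diagonal_snd]
      exact etale_iso _
  -- the four pieces
  let Y := two U V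
  let q : ∀ b, Y b ⟶ W := twoHom j f
  have hY := two_isAlgSpace hU hV
  have transfer : ∀ {X₁ X₂ P₀ : Sp S} {p : X₁ ⟶ W} {p' : X₂ ⟶ W} {c₁ : P₀ ⟶ X₁} {c₂ : P₀ ⟶ X₂},
      IsPullback c₁ c₂ p p' → IsAlgSpace P₀ → IsEtaleMor c₂ →
      IsAlgSpace (pullback p p') ∧ IsEtaleMor (pullback.snd p p') := by
    intro X₁ X₂ P₀ p p' c₁ c₂ sq h₀ h₂
    refine ⟨IsAlgSpace.of_iso h₀ sq.isoPullback, ?_⟩
    rw [← sq.isoPullback_inv_snd]
    exact isEtaleMor_comp' (etale_iso _) h₂
  have hpc : ∀ b b', IsAlgSpace (pullback (q b) (q b')) ∧ IsEtaleMor (pullback.snd (q b) (q b')) := by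
    rintro ⟨_ | _⟩ ⟨_ | _⟩
    · exact ⟨hKs, hk₂⟩
    · exact transfer hwall hV' het
    · exact transfer hwall.flip hV' hj'
    · exact transfer (IsKernelPair.id_of_mono j) hU (etale_iso _)
  let c : Cofan Y := Cofan.mk (∐ Y) (Sigma.ι Y)
  have hc : IsColimit c := coproductIsCoproduct _
  let X : Sp S := c.pt
  have hX : IsAlgSpace X := Bootstrap.isAlgSpace_cofan hc hY
  let π : X ⟶ W := Sigma.desc q
  have hπ : ∀ b, c.inj b ≫ π = q b := fun b => Sigma.ι_desc _ _
  have hrow : ∀ b, IsAlgSpace (pullback (q b) π) ∧ IsEtaleMor (pullback.snd (q b) π) := fun b => by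
    let P : ULift.{u} Bool → Sp S := fun b' => pullback (q b) (q b')
    let l : ∀ b', P b' ⟶ pullback (q b) π := fun b' => pullback.lift (pullback.fst _ _) (pullback.snd _ _ ≫ c.inj b')
      (by rw [Category.assoc, hπ, pullback.condition])
    have sq : ∀ b', IsPullback (pullback.snd (q b) (q b')) (l b') (c.inj b') (pullback.snd (q b) π) := fun b' => by
      refine IsPullback.of_bot ?_ (pullback.lift_snd _ _ _).symm (IsPullback.of_hasPullback (q b) π).flip
      rw [pullback.lift_fst, hπ]
      exact (IsPullback.of_hasPullback (q b) (q b')).flip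
    let c' : Cofan P := Cofan.mk (∐ P) (Sigma.ι P)
    have hc' : IsColimit c' := coproductIsCoproduct _
    have := Bootstrap.isIso_desc_of_isPullback hc (pullback.snd (q b) π) _ l sq hc'
    let t : Cofan P := Cofan.mk (pullback (q b) π) l
    have : IsIso (hc'.desc t) := this
    have ht : IsColimit t := IsColimit.ofPointIso hc'
    refine ⟨Bootstrap.isAlgSpace_cofan ht fun b' => (hpc b b').1,
      etale_cofan_desc ht (fun b' => (hpc b b').1) hX _ fun b' => ?_⟩
    show IsEtaleMor (l b' ≫ pullback.snd (q b) π)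
    rw [pullback.lift_snd]
    exact isEtaleMor_comp' (hpc b b').2 (etaleMor_of_open (Bootstrap.repWith_inj hc b'))
  let R : Sp S := pullback π π
  obtain ⟨hR, hs⟩ : IsAlgSpace R ∧ IsEtaleMor (pullback.snd π π) := by
    let P : ULift.{u} Bool → Sp S := fun b => pullback (q b) π
    let l : ∀ b, P b ⟶ R := fun b => pullback.lift (pullback.fst _ _ ≫ c.inj b) (pullback.snd _ _)
      (by rw [Category.assoc, hπ, pullback.condition])
    have sq : ∀ b, IsPullback (pullback.fst (q b) π) (l b) (c.inj b) (pullback.fst π π) := fun b => by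
      refine IsPullback.of_bot ?_ (pullback.lift_fst _ _ _).symm (IsPullback.of_hasPullback π π)
      rw [pullback.lift_snd, hπ]
      exact IsPullback.of_hasPullback (q b) π
    let c' : Cofan P := Cofan.mk (∐ P) (Sigma.ι P)
    have hc' : IsColimit c' := coproductIsCoproduct _
    have := Bootstrap.isIso_desc_of_isPullback hc (pullback.fst π π) _ l sq hc'
    let t : Cofan P := Cofan.mk R l
    have : IsIso (hc'.desc t) := this
    have ht : IsColimit t := IsColimit.ofPointIso hc'
    refine ⟨Bootstrap.isAlgSpace_cofan ht fun b => (hrow b).1,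
      etale_cofan_desc ht (fun b => (hrow b).1) hX _ fun b => ?_⟩
    show IsEtaleMor (l b ≫ pullback.snd π π)
    rw [pullback.lift_snd]
    exact (hrow b).2
  have ht : IsEtaleMor (pullback.fst π π) := by
    rw [← pullbackSymmetry_hom_comp_snd π π]
    exact isEtaleMor_comp' (etale_iso _) hs
  have hj : IsEqvRelSp (pullback.fst π π) (pullback.snd π π) := by
    refine ⟨fun T r r' h1 h2 => pullback.hom_ext h2 h1, fun T => ?_⟩
    have key : ∀ a b : (yon S).obj T ⟶ X,
        (∃ r : (yon S).obj T ⟶ R, r ≫ pullback.snd π π = a ∧ r ≫ pullback.fst π π = b) ↔ a ≫ π = b ≫ π :=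
      fun a b => ⟨by rintro ⟨r, rfl, rfl⟩; rw [Category.assoc, Category.assoc, pullback.condition],
        fun h => ⟨pullback.lift b a h.symm, pullback.lift_snd _ _ _, pullback.lift_fst _ _ _⟩⟩
    exact ⟨fun a => (key a a).2 rfl, fun h => (key _ _).2 ((key _ _).1 h).symm,
      fun h h' => (key _ _).2 (((key _ _).1 h).trans ((key _ _).1 h'))⟩
  have : Epi π := ⟨fun a b h => by
    refine H.hom_ext ?_ ?_
    · have := congrArg (c.inj ⟨false⟩ ≫ ·) h
      rw [reassoc_of% (hπ ⟨false⟩), reassoc_of% (hπ ⟨false⟩)] at this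
      exact this
    · have := congrArg (c.inj ⟨true⟩ ≫ ·) h
      rw [reassoc_of% (hπ ⟨true⟩), reassoc_of% (hπ ⟨true⟩)] at this
      exact this⟩
  have : IsRegularEpi π := IsRegularEpiCategory.regularEpiOfEpi π
  have hW0 := Groth.Agent.S10102.result S R X hR hX _ _ hj (fppf_of_etale hX ht) (fppf_of_etale hX hs)
  let ψ := (quotSpIsCoequalizer (pullback.fst π π) (pullback.snd π π)).coconePointUniqueUpToIso
    (IsKernelPair.toCoequalizer' (IsPullback.of_hasPullback π π : IsKernelPair π (pullback.fst π π) (pullback.snd π π)))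
  have hψ : quotSpπ (pullback.fst π π) (pullback.snd π π) ≫ ψ.hom = π :=
    (quotSpIsCoequalizer _ _).comp_coconePointUniqueUpToIso_hom _ WalkingParallelPair.one
  have hW : IsAlgSpace W := IsAlgSpace.of_iso hW0 ψ
  obtain ⟨hπs, hπfl, hπfp⟩ := Groth.Agent.S10107.result S R X hR hX _ _ hj (fppf_of_etale hX ht)
    (fppf_of_etale hX hs) hW0
  have hψe := fppf_of_etale hW (etale_iso ψ.hom)
  have hπW : IsSurjectiveMor π := fun w => by
    obtain ⟨x, hx⟩ := hπs (Points.map ψ.inv w)
    refine ⟨x, ?_⟩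
    rw [← hψ, Points.map_comp, hx, ← Points.map_comp, ψ.inv_hom_id, Points.map_id]
  have hcov : IsFppfCover (fun _ : PUnit.{u + 1} => X) (fun _ => π) := by
    refine ⟨fun _ => ⟨?_, ?_⟩, fun w => ⟨⟨⟩, hπW w⟩⟩
    · rw [← hψ]; exact locP_comp etST_flat hW0 hW hπfl hψe.1
    · rw [← hψ]; exact locP_comp etST_lfp hW0 hW hπfp hψe.2
  have hq : ∀ b, IsEtaleMor (q b) := fun b => (isEtaleMor_iff_locP hW).2
    ((isLocalOnBase_locP etST_etale (fun _ : PUnit.{u + 1} => X) (fun _ => π) hW (fun _ => hX)
      (isFpqcCover_of_fppf hW (fun _ => hX) hcov) (q b) (hY b) (fun _ => pullback (q b) π)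
      (fun _ => pullback.snd _ _) (fun _ => pullback.fst _ _) (fun _ => (hrow b).1)
      (fun _ => IsPullback.of_hasPullback _ _)).2 fun _ => (isEtaleMor_iff_locP hX).1 (hrow b).2)
  have hje : IsEtaleMor j := hq ⟨true⟩
  have hfe : IsEtaleMor f := hq ⟨false⟩
  have hjo : RepWith @IsOpenImmersion j := repWith_isOpenImmersion_of_mono hU hW j hje
  have hjr : IsOpen (Set.range (Points.map j)) := (exists_iso_subSheaf_of_mono hU hW j hje).1
  obtain ⟨T, i, hT, hi⟩ := SpQS.exists_redInduced hW hjr.isClosed_compl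
  have sqP := IsPullback.of_hasPullback i f
  have hPs : IsAlgSpace (pullback i f) := isAlgSpace_of_isPullback_space hW hT hV sqP
  have hTf : ∀ {Z : Over S} (z : (yon S).obj Z ⟶ T) (y : (yon S).obj Z ⟶ V') , y ≫ jV ≫ f = z ≫ i →
      IsEmpty Z.left := fun {Z} z y h => ⟨fun t => by
    have h1 : Points.map i (Points.ofPt z t) ∈ (Set.range (Points.map j))ᶜ := hi.2.1 ▸ ⟨_, rfl⟩
    refine h1 ⟨Points.map g (Points.ofPt y t), ?_⟩
    rw [← Points.map_comp, Points.map_ofPt, Points.map_ofPt, ← h, H.w]⟩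
  have hm : Mono (pullback.fst i f) := mono_of_points _ fun Z a b hab => by
    obtain ⟨Rc, hRc, hl⟩ := Bootstrap.exists_summand_cover colK
      (pullback.lift (a ≫ pullback.snd i f) (b ≫ pullback.snd i f) (by
        rw [Category.assoc, Category.assoc, ← pullback.condition, reassoc_of% hab]) : (yon S).obj Z ⟶ K)
    refine pullback.hom_ext hab (hom_ext_cover hRc fun Z' m hm => ?_)
    obtain ⟨⟨_ | _⟩, l, hl⟩ := hl m hm
    · have h1 := congrArg (· ≫ pullback.fst f f) hl
      have : IsEmpty (Over.mk (m ≫ Z.hom)).left := by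
        refine hTf ((yon S).map (Over.homMk m rfl : Over.mk (m ≫ Z.hom) ⟶ Z) ≫ a ≫ pullback.fst i f)
          (l ≫ e ≫ pullback.fst g g) ?_
        change (l ≫ e ≫ ι) ≫ _ = _ at h1
        simp only [Category.assoc, ι, pullback.lift_fst] at h1 ⊢
        rw [reassoc_of% h1, pullback.condition]
      exact (subsingleton_hom_of_isEmpty (F := V)).elim _ _
    · have h1 := congrArg (· ≫ pullback.fst f f) hl
      have h2 := congrArg (· ≫ pullback.snd f f) hl
      change (l ≫ Δ) ≫ _ = _ at h1
      change (l ≫ Δ) ≫ _ = _ at h2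
      simp only [Category.assoc, Δ, pullback.diagonal_fst, pullback.diagonal_snd, pullback.lift_fst,
        pullback.lift_snd, Category.comp_id] at h1 h2
      exact h1.symm.trans h2
  have hiso : IsIso (pullback.fst i f) := by
    have hpe : IsEtaleMor (pullback.fst i f) := (isEtaleMor_iff_locP hT).2
      (locP_baseChange etST_etale hV hW hPs hT sqP.flip ((isEtaleMor_iff_locP hW).1 hfe))
    obtain ⟨-, d, hd, hde⟩ := exists_iso_subSheaf_of_mono hPs hT (pullback.fst i f) hpe
    have hall : ∀ t, t ∈ Set.range (Points.map (pullback.fst i f)) := fun t => by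
      obtain ⟨x, hx⟩ := hπW (Points.map i t)
      obtain ⟨⟨_ | _⟩, v, rfl⟩ := Bootstrap.exists_range_inj hc x
      · obtain ⟨z, hz, -⟩ := exists_point_of_isPullback sqP t v (by
          rw [← hx, ← Points.map_comp, hπ]; rfl)
        exact ⟨z, hz⟩
      · have h1 : Points.map i t ∈ (Set.range (Points.map j))ᶜ := hi.2.1 ▸ ⟨_, rfl⟩
        exact absurd ⟨v, by rw [← hx, ← Points.map_comp, hπ]; rfl⟩ h1
    obtain ⟨s, hs'⟩ := exists_factor_subInc (W := Set.range (Points.map (pullback.fst i f))) (𝟙 T)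
      fun t => by rw [Points.map_id]; exact hall t
    have : Mono (subInc (Set.range (Points.map (pullback.fst i f)))) := inferInstance
    have : IsIso (subInc (Set.range (Points.map (pullback.fst i f)))) :=
      ⟨s, by rw [← cancel_mono (subInc _), Category.assoc, hs', Category.comp_id, Category.id_comp], hs'⟩
    rw [← hde]
    infer_instance
  exact ⟨W, j, f, hW, H, hwall, hjo, hfe, T, pullback i f, i, _, _, hi, sqP, hiso⟩

end Groth.Agent.EtGlue
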